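import Groth.Agent.FlatMor12.ElemNbhd
import Groth.Agent.FlatMorQFSplit.Split

/-!
# Finite parts with prescribed special fibre
-/

set_option autoImplicit false
set_option backward.isDefEq.respectTransparency false
set_option backward.isDefEq.respectTransparency.types false

universe u

open CategoryTheory CategoryTheory.Limits AlgebraicGeometry
open Groth.Agent.FlatMor12

namespace Groth.Agent.Stk19b.GrpdFinPart

variable {X S : Scheme.{u}} (f : X ⟶ S)

/-- `V` is a finite clopen part whose fibre at `p'` is the given set of points. -/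
structure IsPart {S' : Scheme.{u}} (g : S' ⟶ S) (p' : S') (F : Set X) (V : (pullback f g).Opens) : Prop where
  isClosed : IsClosed (V : Set ↑(pullback f g))
  isFinite : IsFinite (V.ι ≫ pullback.snd f g)
  mem_iff : ∀ w, pullback.snd f g w = p' → (w ∈ V ↔ pullback.fst f g w ∈ F)

/-- The comparison of base changes. -/
noncomputable def bcMap {S' S'' : Scheme.{u}} {g : S' ⟶ S} {g' : S'' ⟶ S} (c : S'' ⟶ S') (hc : c ≫ g = g') :
    pullback f g' ⟶ pullback f g :=
  pullback.lift (pullback.fst _ _) (pullback.snd _ _ ≫ c) (by rw [pullback.condition, Category.assoc, hc])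

theorem bcMap_fst {S' S'' : Scheme.{u}} {g : S' ⟶ S} {g' : S'' ⟶ S} (c : S'' ⟶ S') (hc : c ≫ g = g') :
    bcMap f c hc ≫ pullback.fst f g = pullback.fst f g' := pullback.lift_fst _ _ _

theorem bcMap_snd {S' S'' : Scheme.{u}} {g : S' ⟶ S} {g' : S'' ⟶ S} (c : S'' ⟶ S') (hc : c ≫ g = g') :
    bcMap f c hc ≫ pullback.snd f g = pullback.snd f g' ≫ c := pullback.lift_snd _ _ _

theorem isFinite_preimage {S' S'' : Scheme.{u}} {g : S' ⟶ S} {g' : S'' ⟶ S} (c : S'' ⟶ S') (hc : c ≫ g = g')
    (V : (pullback f g).Opens) (hV : IsFinite (V.ι ≫ pullback.snd f g)) :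
    IsFinite ((bcMap f c hc ⁻¹ᵁ V).ι ≫ pullback.snd f g') := by
  subst hc
  have hsq : IsPullback (bcMap f c rfl) (pullback.snd f (c ≫ g)) (pullback.snd f g) c := by
    refine IsPullback.of_right ?_ (bcMap_snd f c rfl) (IsPullback.of_hasPullback f g)
    rw [bcMap_fst]
    exact IsPullback.of_hasPullback f (c ≫ g)
  exact MorphismProperty.of_isPullback (P := @IsFinite)
    ((isPullback_morphismRestrict (bcMap f c rfl) V).flip.paste_horiz hsq.flip).flip hV

theorem IsPart.refine {S' S'' : Scheme.{u}} {g : S' ⟶ S} {p' : S'} {F : Set X} {V : (pullback f g).Opens}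
    (h : IsPart f g p' F V) {g' : S'' ⟶ S} (c : S'' ⟶ S') (hc : c ≫ g = g') (p'' : S'') (hp : c p'' = p') :
    IsPart f g' p'' F (bcMap f c hc ⁻¹ᵁ V) where
  isClosed := h.isClosed.preimage (bcMap f c hc).continuous
  isFinite := isFinite_preimage f c hc V h.isFinite
  mem_iff w hw := by
    have h1 : pullback.snd f g (bcMap f c hc w) = p' := by
      rw [← Scheme.Hom.comp_apply, bcMap_snd, Scheme.Hom.comp_apply, hw, hp]
    refine (h.mem_iff _ h1).trans ?_
    rw [← Scheme.Hom.comp_apply, bcMap_fst]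

/-- Two elementary neighbourhoods have a common refinement. -/
theorem exists_common_refinement {U U' : Scheme.{u}} {g : U ⟶ S} {g' : U' ⟶ S} {u : U} {u' : U'} {s : S}
    (h : Hens2.IsEtaleNbhd g u s) (h' : Hens2.IsEtaleNbhd g' u' s) :
    ∃ (W : Scheme.{u}) (c : W ⟶ U) (c' : W ⟶ U') (hcc : c ≫ g = c' ≫ g') (w : W),
      Hens2.IsEtaleNbhd (c ≫ g) w s ∧ c w = u ∧ c' w = u' := by
  obtain ⟨σ, hσ, hσu⟩ := exists_section_of_isEtaleNbhd h
  obtain ⟨σ', hσ', hσu'⟩ := exists_section_of_isEtaleNbhd h'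
  have := h.etale
  have := h'.etale
  let τ : Spec (S.residueField s) ⟶ pullback g g' := pullback.lift σ σ' (hσ.trans hσ'.symm)
  refine ⟨_, pullback.fst g g', pullback.snd g g', pullback.condition, _,
    isEtaleNbhd_of_section (pullback.fst g g' ≫ g) s τ (by rw [pullback.lift_fst_assoc, hσ]), ?_, ?_⟩
  · rw [← Scheme.Hom.comp_apply, pullback.lift_fst]; exact hσu _
  · rw [← Scheme.Hom.comp_apply, pullback.lift_snd]; exact hσu' _

theorem isClosed_of_isFinite [IsSeparated f] {S' : Scheme.{u}} (g : S' ⟶ S) (V : (pullback f g).Opens)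
    (hV : IsFinite (V.ι ≫ pullback.snd f g)) : IsClosed (V : Set ↑(pullback f g)) := by
  have : IsFinite V.ι := IsFinite.of_comp V.ι (pullback.snd f g)
  rw [← Scheme.Opens.range_ι]
  exact V.ι.isClosedMap.isClosed_range

/-- Finitely many quasi-finite points of a fibre form the special fibre of a finite clopen part. -/
theorem exists_part [LocallyOfFiniteType f] [IsSeparated f] (p : S) (F : Set X) (hF : F.Finite)
    (h : ∀ x ∈ F, f x = p ∧ f.QuasiFiniteAt x) :
    ∃ (S' : Scheme.{u}) (g : S' ⟶ S) (p' : S') (V : (pullback f g).Opens),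
      Hens2.IsEtaleNbhd g p' p ∧ IsPart f g p' F V := by
  induction F, hF using Set.Finite.induction_on with
  | empty =>
    refine ⟨S, 𝟙 S, p, (∅ : Finset Unit).sup (fun _ => ⊥), ?_, ⟨?_, isFinite_finset_sup _ _ _ (by simp), ?_⟩⟩
    · have := isEtaleNbhd_of_section (𝟙 S) p (S.fromSpecResidueField p) (Category.comp_id _)
      rwa [show S.fromSpecResidueField p _ = p from Scheme.fromSpecResidueField_apply p _] at this
    · rw [Finset.sup_empty, TopologicalSpace.Opens.coe_bot]; exact isClosed_empty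
    · intro w _
      rw [Finset.sup_empty]
      exact ⟨fun h => absurd h id, fun h => absurd h id⟩
  | @insert a t _ _ ih =>
    obtain ⟨U, g, u, V, hn, hV⟩ := ih fun x hx => h x (Set.mem_insert_of_mem _ hx)
    obtain ⟨hfa, hqa⟩ := h a (Set.mem_insert _ _)
    obtain ⟨U', g', u', hn', V', v, hV'fin, hvV, hv₁, hv₂, hv⟩ := FlatMorQFSplit.exists_split_unique f hfa hqa
    have hV' : IsPart f g' u' {a} V' := ⟨isClosed_of_isFinite f g' V' hV'fin, hV'fin, fun w hw => by
      constructor
      · intro hwV; rw [hv w hwV hw]; exact hv₁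
      · intro hwa
        rwa [FlatMorQFSplit.eq_of_fst_eq f hn' w v hw hv₂ (hwa.trans hv₁.symm)]⟩
    obtain ⟨W, c, c', hcc, w₀, hnW, hc, hc'⟩ := exists_common_refinement hn hn'
    have hA := hV.refine f c rfl w₀ hc
    have hB := hV'.refine f (g' := c ≫ g) c' hcc.symm w₀ hc'
    have := hnW.etale
    haveI := hA.isFinite
    haveI := hB.isFinite
    refine ⟨W, c ≫ g, w₀, bcMap f c rfl ⁻¹ᵁ V ⊔ bcMap f c' hcc.symm ⁻¹ᵁ V', hnW, ⟨?_, isFinite_sup _ _ _, ?_⟩⟩
    · rw [TopologicalSpace.Opens.coe_sup]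
      exact hA.isClosed.union hB.isClosed
    · intro w hw
      rw [Set.mem_insert_iff]
      refine (TopologicalSpace.Opens.mem_sup).trans ?_
      rw [hA.mem_iff w hw, hB.mem_iff w hw, Set.mem_singleton_iff, or_comm]

/-- A closed open inside a finite part is finite. -/
theorem isFinite_of_le {P T : Scheme.{u}} (π : P ⟶ T) {A B : P.Opens} (hAB : A ≤ B) (hA : IsClosed (A : Set P))
    (hB : IsFinite (B.ι ≫ π)) : IsFinite (A.ι ≫ π) := by
  have : IsClosedImmersion (P.homOfLE hAB) := by
    refine IsClosedImmersion.of_isPreimmersion _ ?_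
    have : Set.range (P.homOfLE hAB) = B.ι ⁻¹' (A : Set P) :=
      congrArg SetLike.coe (Scheme.opensRange_homOfLE hAB)
    rw [this]
    exact hA.preimage B.ι.continuous
  rw [← Scheme.homOfLE_ι P hAB, Category.assoc]
  infer_instance

end Groth.Agent.Stk19b.GrpdFinPart
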