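import Groth.Agent.Stk19b.GrpdFinPart.Points
import Groth.Agent.Stk19b.GrpdFinPart.Part

/-!
# Etale splitting of the finite part of a quasi-finite groupoid
-/

set_option autoImplicit false
set_option backward.isDefEq.respectTransparency false
set_option backward.isDefEq.respectTransparency.types false

universe u

open CategoryTheory CategoryTheory.Limits AlgebraicGeometry

namespace Groth.Agent.Stk19b.GrpdFinPart

variable {S : Scheme.{u}} (G : Grpd.GroupoidScheme S)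

/-- The base change of the source. -/
noncomputable abbrev sBC {S' : Scheme.{u}} (g : S' ⟶ S) : pullback G.pR g ⟶ pullback G.pU g :=
  pullback.map G.pR g G.pU g G.s (𝟙 S') (𝟙 S) ((Category.comp_id _).trans G.s_over.symm)
    ((Category.comp_id _).trans (Category.id_comp _).symm)

/-- The base change of the target. -/
noncomputable abbrev tBC {S' : Scheme.{u}} (g : S' ⟶ S) : pullback G.pR g ⟶ pullback G.pU g :=
  pullback.map G.pR g G.pU g G.t (𝟙 S') (𝟙 S) ((Category.comp_id _).trans G.t_over.symm)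
    ((Category.comp_id _).trans (Category.id_comp _).symm)

theorem sBC_fst {S' : Scheme.{u}} (g : S' ⟶ S) (r : ↑(pullback G.pR g)) :
    pullback.fst G.pU g (sBC G g r) = G.s (pullback.fst G.pR g r) := by
  rw [← Scheme.Hom.comp_apply, ← Scheme.Hom.comp_apply, pullback.lift_fst]

theorem sBC_snd {S' : Scheme.{u}} (g : S' ⟶ S) (r : ↑(pullback G.pR g)) :
    pullback.snd G.pU g (sBC G g r) = pullback.snd G.pR g r := by
  rw [← Scheme.Hom.comp_apply, pullback.lift_snd, Category.comp_id]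

theorem tBC_fst {S' : Scheme.{u}} (g : S' ⟶ S) (r : ↑(pullback G.pR g)) :
    pullback.fst G.pU g (tBC G g r) = G.t (pullback.fst G.pR g r) := by
  rw [← Scheme.Hom.comp_apply, ← Scheme.Hom.comp_apply, pullback.lift_fst]

theorem tBC_snd {S' : Scheme.{u}} (g : S' ⟶ S) (r : ↑(pullback G.pR g)) :
    pullback.snd G.pU g (tBC G g r) = pullback.snd G.pR g r := by
  rw [← Scheme.Hom.comp_apply, pullback.lift_snd, Category.comp_id]

variable [LocallyOfFiniteType G.pU] [IsSeparated G.pU] [IsSeparated G.pR] [Flat G.s]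
  [LocallyOfFinitePresentation G.s] [Flat G.t] [LocallyOfFinitePresentation G.t] {p : S} {u : G.U}

omit [IsSeparated G.pU] [IsSeparated G.pR] [Flat G.s] in
theorem quasiFinite_orbit (hu : G.pU u = p) (hqf : ∃ V : G.U.Opens, u ∈ V ∧ ∀ x ∈ V, G.pU x = p → x = u)
    (hfin : (⇑G.s ⁻¹' {u}).Finite) :
    (∀ x ∈ orbit G u, G.pU x = p ∧ G.pU.QuasiFiniteAt x) ∧
      (∀ r ∈ ⇑G.s ⁻¹' orbit G u, G.pR r = p ∧ G.pR.QuasiFiniteAt r) := by
  have : LocallyOfFiniteType G.pR := by rw [← G.s_over]; infer_instance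
  obtain ⟨V, huV, hV⟩ := hqf
  have hqu : G.pU.QuasiFiniteAt u := quasiFiniteAt_of_isolated G.pU V huV fun y hy h => hV y hy (h.trans hu)
  have hcomp : ∀ r : G.R, (⇑G.s ⁻¹' {G.s r}).Finite → G.pU.QuasiFiniteAt (G.s r) → G.pR.QuasiFiniteAt r := by
    intro r hr hq
    have h1 : G.s.QuasiFiniteAt r := quasiFiniteAt_of_finite G.s hr
    rw [← G.s_over]
    simp only [Scheme.Hom.QuasiFiniteAt, Scheme.Hom.stalkMap_comp, CommRingCat.hom_comp] at h1 hq ⊢
    exact h1.comp hq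
  have hpt : ∀ r : G.R, G.pU (G.t r) = G.pU (G.s r) := fun r => by
    rw [← Scheme.Hom.comp_apply, ← Scheme.Hom.comp_apply, G.t_over, G.s_over]
  have hU : ∀ x ∈ orbit G u, G.pU x = p ∧ G.pU.QuasiFiniteAt x := by
    rintro x ⟨r, hr, rfl⟩
    rw [Set.mem_preimage, Set.mem_singleton_iff] at hr
    refine ⟨by rw [hpt, hr, hu], ?_⟩
    obtain ⟨O, hrO, hO⟩ := exists_isolated G.pR (hcomp r (by rwa [hr]) (by rwa [hr]))
    refine quasiFiniteAt_of_isolated G.pU ⟨⇑G.t '' O, G.t.isOpenMap _ O.isOpen⟩ ⟨r, hrO, rfl⟩ ?_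
    rintro y ⟨r', hr', rfl⟩ hy
    rw [hO r' hr' ?_]
    rw [← G.t_over, Scheme.Hom.comp_apply, Scheme.Hom.comp_apply]
    exact hy
  refine ⟨hU, fun r hr => ⟨?_, hcomp r ?_ (hU _ hr).2⟩⟩
  · rw [← G.s_over, Scheme.Hom.comp_apply, (hU _ hr).1]
  · obtain ⟨r₁, hr₁, he⟩ := hr
    rw [← he]
    exact finite_preimage_translate G u hfin r₁ hr₁

/-- A neighbourhood with split finite parts of objects and arrows. -/
theorem exists_good (hu : G.pU u = p) (hqf : ∃ V : G.U.Opens, u ∈ V ∧ ∀ x ∈ V, G.pU x = p → x = u)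
    (hfin : (⇑G.s ⁻¹' {u}).Finite) :
    ∃ (S' : Scheme.{u}) (g : S' ⟶ S) (p' : S') (U' : (pullback G.pU g).Opens) (R₀ : (pullback G.pR g).Opens),
      Hens2.IsEtaleNbhd g p' p ∧ IsPart G.pU g p' (orbit G u) U' ∧
        IsPart G.pR g p' (⇑G.s ⁻¹' orbit G u) R₀ := by
  have : LocallyOfFiniteType G.pR := by rw [← G.s_over]; infer_instance
  obtain ⟨hU, hR⟩ := quasiFinite_orbit G hu hqf hfin
  obtain ⟨A, a, pa, VA, hna, hA⟩ := exists_part G.pU p (orbit G u) (hfin.image _) hU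
  obtain ⟨B, b, pb, VB, hnb, hB⟩ := exists_part G.pR p _ (finite_preimage_orbit G u hfin) hR
  obtain ⟨W, c, c', hcc, w, hn, hc, hc'⟩ := exists_common_refinement hna hnb
  exact ⟨W, c ≫ a, w, _, _, hn, hA.refine G.pU c rfl w hc, hB.refine G.pR (g' := c ≫ a) c' hcc.symm w hc'⟩

/-- The arrows between objects of the finite part that lie in the finite part of the arrows. -/
noncomputable def arrows {S' : Scheme.{u}} (g : S' ⟶ S) (U' : (pullback G.pU g).Opens)
    (R₀ : (pullback G.pR g).Opens) : (pullback G.pR g).Opens :=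
  R₀ ⊓ sBC G g ⁻¹ᵁ U' ⊓ tBC G g ⁻¹ᵁ U'

omit [Flat G.s] [LocallyOfFinitePresentation G.s] [Flat G.t] [LocallyOfFinitePresentation G.t]
  [LocallyOfFiniteType G.pU] [IsSeparated G.pU] [IsSeparated G.pR] in
theorem conclusions [LocallyOfFiniteType G.s] (hu : G.pU u = p) {S' : Scheme.{u}} {g : S' ⟶ S} {p' : S'}
    (hn : Hens2.IsEtaleNbhd g p' p) {U' : (pullback G.pU g).Opens} {R₀ : (pullback G.pR g).Opens}
    (hU : IsPart G.pU g p' (orbit G u) U') (hR : IsPart G.pR g p' (⇑G.s ⁻¹' orbit G u) R₀) :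
    IsClosed (arrows G g U' R₀ : Set ↑(pullback G.pR g)) ∧
    (∃ u' : ↑(pullback G.pU g), u' ∈ U' ∧ pullback.fst G.pU g u' = u ∧ pullback.snd G.pU g u' = p') ∧
    (∀ u' : ↑(pullback G.pU g), u' ∈ U' → pullback.fst G.pU g u' = u → pullback.snd G.pU g u' = p' →
      {x : ↑(pullback G.pU g) | x ∈ U' ∧ pullback.snd G.pU g x = p'} = ⇑(tBC G g) '' (⇑(sBC G g) ⁻¹' {u'})) ∧
    {r : ↑(pullback G.pR g) | r ∈ arrows G g U' R₀ ∧ pullback.snd G.pR g r = p'} =
      ⇑(sBC G g) ⁻¹' {x | x ∈ U' ∧ pullback.snd G.pU g x = p'} ∧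
    IsFinite ((arrows G g U' R₀).ι ≫ pullback.snd G.pR g) ∧
    ⇑(sBC G g) '' (arrows G g U' R₀ : Set ↑(pullback G.pR g)) ⊆ U' ∧
    ⇑(tBC G g) '' (arrows G g U' R₀ : Set ↑(pullback G.pR g)) ⊆ U' := by
  have hcl : IsClosed (arrows G g U' R₀ : Set ↑(pullback G.pR g)) :=
    (hR.isClosed.inter (hU.isClosed.preimage (sBC G g).continuous)).inter
      (hU.isClosed.preimage (tBC G g).continuous)
  refine ⟨hcl, ?_, ?_, ?_, isFinite_of_le _ (inf_le_left.trans inf_le_left) hcl hR.isFinite, ?_, ?_⟩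
  · obtain ⟨u', h1, h2⟩ := Scheme.Pullback.exists_preimage_pullback (f := G.pU) (g := g) u p'
      (hu.trans hn.base_eq.symm)
    exact ⟨u', (hU.mem_iff u' h2).2 (h1 ▸ mem_orbit_self G u), h1, h2⟩
  · intro u' _ h1 h2
    ext x
    constructor
    · rintro ⟨hxU, hxp⟩
      obtain ⟨r, hr, hrx⟩ := (hU.mem_iff x hxp).1 hxU
      rw [Set.mem_preimage, Set.mem_singleton_iff] at hr
      obtain ⟨r', hr'1, hr'2⟩ := Scheme.Pullback.exists_preimage_pullback (f := G.pR) (g := g) r p' (by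
        rw [← G.s_over, Scheme.Hom.comp_apply, hr]; exact hu.trans hn.base_eq.symm)
      exact ⟨r', FlatMorQFSplit.eq_of_fst_eq G.pU hn _ _ ((sBC_snd G g r').trans hr'2) h2
          (by rw [sBC_fst, hr'1, hr, h1]),
        FlatMorQFSplit.eq_of_fst_eq G.pU hn _ _ ((tBC_snd G g r').trans hr'2) hxp
          (by rw [tBC_fst, hr'1, hrx])⟩
    · rintro ⟨r, hr, rfl⟩
      rw [Set.mem_preimage, Set.mem_singleton_iff] at hr
      have hp : pullback.snd G.pR g r = p' := by rw [← sBC_snd, hr, h2]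
      refine ⟨(hU.mem_iff _ ((tBC_snd G g r).trans hp)).2 ⟨pullback.fst G.pR g r, ?_, (tBC_fst G g r).symm⟩,
        (tBC_snd G g r).trans hp⟩
      rw [Set.mem_preimage, Set.mem_singleton_iff, ← sBC_fst, hr, h1]
  · ext r
    constructor
    · rintro ⟨⟨⟨-, hs⟩, -⟩, hrp⟩
      exact ⟨hs, (sBC_snd G g r).trans hrp⟩
    · rintro ⟨hs, hp⟩
      have hrp : pullback.snd G.pR g r = p' := (sBC_snd G g r).symm.trans hp
      have hso : G.s (pullback.fst G.pR g r) ∈ orbit G u := sBC_fst G g r ▸ (hU.mem_iff _ hp).1 hs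
      refine ⟨⟨⟨(hR.mem_iff r hrp).2 hso, hs⟩, ?_⟩, hrp⟩
      exact (hU.mem_iff _ ((tBC_snd G g r).trans hrp)).2 (tBC_fst G g r ▸ t_mem_orbit G hso)
  · rintro _ ⟨r, ⟨⟨-, hs⟩, -⟩, rfl⟩
    exact hs
  · rintro _ ⟨r, ⟨-, ht⟩, rfl⟩
    exact ht

end Groth.Agent.Stk19b.GrpdFinPart
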