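import Groth.Agent.Stk19b.GrpdFinPart.Main

/-!
# The finite part as a full restriction
-/

set_option autoImplicit false
set_option backward.isDefEq.respectTransparency false
set_option backward.isDefEq.respectTransparency.types false

universe u

open CategoryTheory CategoryTheory.Limits AlgebraicGeometry

namespace Groth.Agent.Stk19b.GrpdFinPart

variable {S : Scheme.{u}} (G : Grpd.GroupoidScheme S) [UniversallyClosed G.j] [LocallyOfFiniteType G.pU]

/-- Closed sets of arrows between objects of a finite part have closed image in the base. -/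
theorem isClosed_image {S' : Scheme.{u}} (g : S' ⟶ S) {U' : (pullback G.pU g).Opens}
    (hfin : IsFinite (U'.ι ≫ pullback.snd G.pU g)) (K : Set ↑(pullback G.pR g)) (hK : IsClosed K)
    (hsU : ⇑(sBC G g) '' K ⊆ U') (htU : ⇑(tBC G g) '' K ⊆ U') :
    IsClosed (⇑(pullback.snd G.pR g) '' K) := by
  let π := pullback.fst G.pU G.pU ≫ G.pU
  have hjπ : G.j ≫ π = G.pR := by
    rw [Grpd.GroupoidScheme.j, pullback.lift_fst_assoc, G.t_over]
  have hπ₁ : pullback.fst G.pU G.pU ≫ G.pU = π := rfl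
  have hπ₂ : pullback.snd G.pU G.pU ≫ G.pU = π := pullback.condition.symm
  let j' : pullback G.pR g ⟶ pullback π g :=
    pullback.map G.pR g π g G.j (𝟙 S') (𝟙 S) (by rw [Category.comp_id, hjπ]) (by simp)
  have : UniversallyClosed j' :=
    MorphismProperty.pullbackMap (P := @UniversallyClosed) ‹_› inferInstance hjπ.symm (Category.id_comp g).symm
  let pr₁ : pullback π g ⟶ pullback G.pU g :=
    pullback.map π g G.pU g (pullback.fst G.pU G.pU) (𝟙 S') (𝟙 S) (by rw [Category.comp_id, hπ₁]) (by simp)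
  let pr₂ : pullback π g ⟶ pullback G.pU g :=
    pullback.map π g G.pU g (pullback.snd G.pU G.pU) (𝟙 S') (𝟙 S) (by rw [Category.comp_id, hπ₂]) (by simp)
  have hj₁ : j' ≫ pr₁ = tBC G g := by
    apply pullback.hom_ext <;> simp [j', pr₁, tBC, Grpd.GroupoidScheme.j]
  have hj₂ : j' ≫ pr₂ = sBC G g := by
    apply pullback.hom_ext <;> simp [j', pr₂, sBC, Grpd.GroupoidScheme.j]
  let h := U'.ι ≫ pullback.snd G.pU g
  let a := pullback.fst h h ≫ U'.ι
  let b := pullback.snd h h ≫ U'.ι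
  have hab : a ≫ pullback.snd G.pU g = b ≫ pullback.snd G.pU g := by
    simp only [a, b, Category.assoc]
    exact pullback.condition
  have hag : (a ≫ pullback.fst G.pU g) ≫ G.pU = (b ≫ pullback.fst G.pU g) ≫ G.pU := by
    simp only [Category.assoc, pullback.condition]
    rw [reassoc_of% hab]
  let ω : pullback h h ⟶ pullback π g :=
    pullback.lift (pullback.lift (a ≫ pullback.fst G.pU g) (b ≫ pullback.fst G.pU g) hag) (a ≫ pullback.snd G.pU g)
      (by simp only [π, pullback.lift_fst_assoc, Category.assoc]; simp only [a, Category.assoc, pullback.condition])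
  have hω₁ : ω ≫ pr₁ = a := by apply pullback.hom_ext <;> simp [ω, pr₁]
  have hω₂ : ω ≫ pr₂ = b := by
    apply pullback.hom_ext
    · simp [ω, pr₂]
    · simp [ω, pr₂, hab]
  have hωs : ω ≫ pullback.snd π g = pullback.fst h h ≫ h := by
    simp only [ω, a, h, pullback.lift_snd, Category.assoc]
  have : IsFinite (pullback.fst h h) := inferInstance
  have : UniversallyClosed (ω ≫ pullback.snd π g) := by rw [hωs]; infer_instance
  have himage : ⇑(pullback.snd G.pR g) '' K = ⇑(ω ≫ pullback.snd π g) '' (⇑ω ⁻¹' (⇑j' '' K)) := by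
    have hjs : j' ≫ pullback.snd π g = pullback.snd G.pR g := by simp [j']
    have hsub : ⇑j' '' K ⊆ Set.range ω := by
      rintro _ ⟨r, hr, rfl⟩
      let z := (pullback π g).fromSpecResidueField (j' r)
      have hz : ∀ q, z q = j' r := fun q => Scheme.fromSpecResidueField_apply (j' r) q
      let l₁ := IsOpenImmersion.lift U'.ι (z ≫ pr₁) (by
        rintro _ ⟨q, rfl⟩
        rw [Scheme.Opens.range_ι, Scheme.Hom.comp_apply, hz, ← Scheme.Hom.comp_apply, hj₁]
        exact htU ⟨r, hr, rfl⟩)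
      let l₂ := IsOpenImmersion.lift U'.ι (z ≫ pr₂) (by
        rintro _ ⟨q, rfl⟩
        rw [Scheme.Opens.range_ι, Scheme.Hom.comp_apply, hz, ← Scheme.Hom.comp_apply, hj₂]
        exact hsU ⟨r, hr, rfl⟩)
      have hl₁ : l₁ ≫ U'.ι = z ≫ pr₁ := IsOpenImmersion.lift_fac _ _ _
      have hl₂ : l₂ ≫ U'.ι = z ≫ pr₂ := IsOpenImmersion.lift_fac _ _ _
      have hps₁ : pr₁ ≫ pullback.snd G.pU g = pullback.snd π g := by simp [pr₁]
      have hps₂ : pr₂ ≫ pullback.snd G.pU g = pullback.snd π g := by simp [pr₂]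
      let l : _ ⟶ pullback h h := pullback.lift l₁ l₂ (by
        simp only [h, reassoc_of% hl₁, reassoc_of% hl₂, hps₁, hps₂])
      have hla : l ≫ a = z ≫ pr₁ := by simp [a, l, hl₁]
      have hlb : l ≫ b = z ≫ pr₂ := by simp [b, l, hl₂]
      have hl : l ≫ ω = z := by
        apply pullback.hom_ext
        · apply pullback.hom_ext
          · have := congrArg (· ≫ pullback.fst G.pU g) hla
            simpa [ω, pr₁] using this
          · have := congrArg (· ≫ pullback.fst G.pU g) hlb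
            simpa [ω, pr₂] using this
        · have := congrArg (· ≫ pullback.snd G.pU g) hla
          simpa [ω, pr₁] using this
      obtain ⟨q⟩ : Nonempty (Spec ((pullback π g).residueField (j' r))) := inferInstance
      exact ⟨l q, by rw [← Scheme.Hom.comp_apply, hl, hz]⟩
    ext x
    constructor
    · rintro ⟨r, hr, rfl⟩
      obtain ⟨w, hw⟩ := hsub ⟨r, hr, rfl⟩
      exact ⟨w, ⟨r, hr, hw.symm⟩, by rw [Scheme.Hom.comp_apply, hw, ← Scheme.Hom.comp_apply, hjs]⟩
    · rintro ⟨w, ⟨r, hr, hrw⟩, rfl⟩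
      exact ⟨r, hr, by rw [Scheme.Hom.comp_apply, ← hrw, ← Scheme.Hom.comp_apply, hjs]⟩
  rw [himage]
  exact (ω ≫ pullback.snd π g).isClosedMap _ ((j'.isClosedMap _ hK).preimage ω.continuous)

variable [IsSeparated G.pU] [IsSeparated G.pR] [Flat G.s]
  [LocallyOfFinitePresentation G.s] [Flat G.t] [LocallyOfFinitePresentation G.t] {p : S} {u : G.U}

/-- A neighbourhood over which every arrow between objects of the finite part lies in the finite part. -/
theorem exists_good_full (hu : G.pU u = p) (hqf : ∃ V : G.U.Opens, u ∈ V ∧ ∀ x ∈ V, G.pU x = p → x = u)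
    (hfin : (⇑G.s ⁻¹' {u}).Finite) :
    ∃ (S' : Scheme.{u}) (g : S' ⟶ S) (p' : S') (U' : (pullback G.pU g).Opens) (R₀ : (pullback G.pR g).Opens),
      Hens2.IsEtaleNbhd g p' p ∧ IsPart G.pU g p' (orbit G u) U' ∧
        IsPart G.pR g p' (⇑G.s ⁻¹' orbit G u) R₀ ∧ sBC G g ⁻¹ᵁ U' ⊓ tBC G g ⁻¹ᵁ U' ≤ R₀ := by
  obtain ⟨S', g, p', U', R₀, hn, hU, hR⟩ := exists_good G hu hqf hfin
  let K : Set ↑(pullback G.pR g) :=
    (⇑(sBC G g) ⁻¹' U' ∩ ⇑(tBC G g) ⁻¹' U') ∩ (R₀ : Set ↑(pullback G.pR g))ᶜ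
  have hK : IsClosed K := ((hU.isClosed.preimage (sBC G g).continuous).inter
    (hU.isClosed.preimage (tBC G g).continuous)).inter R₀.isOpen.isClosed_compl
  let W : S'.Opens := ⟨(⇑(pullback.snd G.pR g) '' K)ᶜ, (isClosed_image G g hU.isFinite K hK
    (by rintro _ ⟨r, hr, rfl⟩; exact hr.1.1) (by rintro _ ⟨r, hr, rfl⟩; exact hr.1.2)).isOpen_compl⟩
  have hpW : p' ∈ W := by
    rintro ⟨r, ⟨⟨hs, -⟩, hr0⟩, hrp⟩
    refine hr0 ((hR.mem_iff r hrp).2 ?_)
    rw [Set.mem_preimage, ← sBC_fst]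
    exact (hU.mem_iff _ ((sBC_snd G g r).trans hrp)).1 hs
  let w : W.toScheme := ⟨p', hpW⟩
  have hn' : Hens2.IsEtaleNbhd (W.ι ≫ g) w p := by
    have := hn.etale
    refine ⟨inferInstance, by rw [Scheme.Hom.comp_apply]; exact hn.base_eq, ?_⟩
    rw [Scheme.residueFieldMap_comp]
    have : IsIso (W.ι.residueFieldMap w) := inferInstance
    exact Function.Bijective.comp (g := ⇑(W.ι.residueFieldMap w)) ((ConcreteCategory.isIso_iff_bijective _).1 this)
      hn.residue_bijective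
  refine ⟨W, W.ι ≫ g, w, _, _, hn', hU.refine G.pU W.ι rfl w rfl, hR.refine G.pR W.ι rfl w rfl, ?_⟩
  intro r hr
  have hs : bcMap G.pR W.ι rfl ≫ sBC G g = sBC G (W.ι ≫ g) ≫ bcMap G.pU W.ι rfl := by
    apply pullback.hom_ext <;> simp [bcMap, sBC]
  have ht : bcMap G.pR W.ι rfl ≫ tBC G g = tBC G (W.ι ≫ g) ≫ bcMap G.pU W.ι rfl := by
    apply pullback.hom_ext <;> simp [bcMap, tBC]
  by_contra hr0
  have hrW : pullback.snd G.pR g (bcMap G.pR W.ι rfl r) ∈ W := by
    rw [← Scheme.Hom.comp_apply, bcMap_snd, Scheme.Hom.comp_apply]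
    exact (pullback.snd G.pR (W.ι ≫ g) r).2
  refine hrW ⟨bcMap G.pR W.ι rfl r, ⟨⟨?_, ?_⟩, hr0⟩, rfl⟩
  · show sBC G g (bcMap G.pR W.ι rfl r) ∈ U'
    rw [← Scheme.Hom.comp_apply, hs, Scheme.Hom.comp_apply]
    exact hr.1
  · show tBC G g (bcMap G.pR W.ι rfl r) ∈ U'
    rw [← Scheme.Hom.comp_apply, ht, Scheme.Hom.comp_apply]
    exact hr.2

end Groth.Agent.Stk19b.GrpdFinPart
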