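import Groth.Prelude.Def_Grpd
import Groth.Agent.FlatMor12.ElemNbhd
import Mathlib.AlgebraicGeometry.Morphisms.QuasiFinite
import Mathlib.Topology.JacobsonSpace

/-!
# Quasi-finite points of a groupoid scheme
-/

set_option autoImplicit false
set_option backward.isDefEq.respectTransparency false
set_option backward.isDefEq.respectTransparency.types false

universe u

open CategoryTheory CategoryTheory.Limits AlgebraicGeometry

namespace Groth.Agent.Stk19b.GrpdFinPart

/-- A point isolated in its fibre is quasi-finite. -/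
theorem quasiFiniteAt_of_isolated {X Y : Scheme.{u}} (f : X ⟶ Y) [LocallyOfFiniteType f] {x : X}
    (O : X.Opens) (hxO : x ∈ O) (h : ∀ y ∈ O, f y = f x → y = x) : f.QuasiFiniteAt x := by
  rw [Scheme.Hom.quasiFiniteAt_iff_isOpen_singleton_asFiber]
  have : f.fiberι (f x) ⁻¹' (O : Set X) = {f.asFiber x} := by
    ext z
    constructor
    · intro hz
      have hzf : f (f.fiberι (f x) z) = f x :=
        (Set.mem_preimage.1 ((f.range_fiberι (f x)).subset ⟨z, rfl⟩) :)
      exact (f.fiberι _).isEmbedding.injective ((h _ hz hzf).trans (f.fiberι_asFiber x).symm)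
    · rintro rfl
      show f.fiberι (f x) (f.asFiber x) ∈ O
      rw [f.fiberι_asFiber]; exact hxO
  rw [← this]
  exact O.isOpen.preimage (f.fiberι (f x)).continuous

theorem exists_isolated {X Y : Scheme.{u}} (f : X ⟶ Y) [LocallyOfFiniteType f] {x : X} (hx : f.QuasiFiniteAt x) :
    ∃ O : X.Opens, x ∈ O ∧ ∀ y ∈ O, f y = f x → y = x := by
  have h := Scheme.Hom.quasiFiniteAt_iff_isOpen_singleton_asFiber.1 hx
  obtain ⟨O, hO, hOx⟩ := (f.fiberι (f x)).isEmbedding.isInducing.isOpen_iff.1 h
  refine ⟨⟨O, hO⟩, ?_, fun y hy hyx => ?_⟩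
  · have hmem : f.asFiber x ∈ f.fiberι (f x) ⁻¹' O := hOx.ge rfl
    rwa [Set.mem_preimage, f.fiberι_asFiber] at hmem
  · obtain ⟨z, rfl⟩ : y ∈ Set.range (f.fiberι (f x)) := by rw [f.range_fiberι]; exact hyx
    obtain rfl : z = f.asFiber x := hOx.le hy
    exact f.fiberι_asFiber x

/-- The fibre over a point with finitely many preimages is finite over the residue field. -/
theorem isFinite_fiber_of_finite {X Y : Scheme.{u}} (f : X ⟶ Y) [LocallyOfFiniteType f] (y : Y)
    (hfin : (f ⁻¹' {y}).Finite) : IsFinite (f.fiberToSpecResidueField y) ∧ DiscreteTopology (f.fiber y) := by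
  have : Finite (f ⁻¹' {y}) := hfin.to_subtype
  have : Finite (f.fiber y) := Finite.of_equiv _ (f.fiberHomeo y).toEquiv.symm
  have hd : DiscreteTopology (f.fiber y) := inferInstance
  have : LocallyOfFiniteType (f.fiberToSpecResidueField y) :=
    inferInstanceAs (LocallyOfFiniteType (pullback.snd _ _))
  have : LocallyQuasiFinite (f.fiberToSpecResidueField y) :=
    (locallyQuasiFinite_iff_isDiscrete_preimage_singleton (f := f.fiberToSpecResidueField y)).2 fun _ => by
      exact ⟨inferInstance⟩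
  have : QuasiCompact (f.fiberToSpecResidueField y) := (quasiCompact_iff_compactSpace _).2 inferInstance
  exact ⟨IsFinite.of_locallyQuasiFinite _, hd⟩

theorem quasiFiniteAt_of_finite {X Y : Scheme.{u}} (f : X ⟶ Y) [LocallyOfFiniteType f] {x : X}
    (hfin : (f ⁻¹' {f x}).Finite) : f.QuasiFiniteAt x := by
  rw [Scheme.Hom.quasiFiniteAt_iff_isOpen_singleton_asFiber]
  have := (isFinite_fiber_of_finite f (f x) hfin).2
  exact isOpen_discrete _

variable {S : Scheme.{u}} (G : Grpd.GroupoidScheme S) [LocallyOfFiniteType G.s]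

/-- The targets of the arrows with source `u`. -/
def orbit (u : G.U) : Set G.U := ⇑G.t '' (⇑G.s ⁻¹' {u})

theorem mem_orbit_self (u : G.U) : u ∈ orbit G u :=
  ⟨G.e u, by rw [Set.mem_preimage, Set.mem_singleton_iff, ← Scheme.Hom.comp_apply, G.e_s]; rfl,
    by rw [← Scheme.Hom.comp_apply, G.e_t]; rfl⟩

theorem comp_c_s : G.c ≫ G.s = pullback.snd G.s G.t ≫ G.s := by
  simpa using G.comp_s (pullback.fst G.s G.t) (pullback.snd G.s G.t) pullback.condition

theorem comp_c_t : G.c ≫ G.t = pullback.fst G.s G.t ≫ G.t := by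
  simpa using G.comp_t (pullback.fst G.s G.t) (pullback.snd G.s G.t) pullback.condition

theorem t_mem_orbit {u : G.U} {r : G.R} (hr : G.s r ∈ orbit G u) : G.t r ∈ orbit G u := by
  obtain ⟨r₁, hr₁, he⟩ := hr
  obtain ⟨z, hz₁, hz₂⟩ := Scheme.Pullback.exists_preimage_pullback (f := G.s) (g := G.t) r r₁ he.symm
  refine ⟨G.c z, ?_, ?_⟩
  · rw [Set.mem_preimage, ← Scheme.Hom.comp_apply, comp_c_s, Scheme.Hom.comp_apply, hz₂]
    exact hr₁
  · rw [← Scheme.Hom.comp_apply, comp_c_t, Scheme.Hom.comp_apply, hz₁]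

/-- Finiteness of the arrows from a point passes to the targets. -/
theorem finite_preimage_translate (u : G.U) (hfin : (⇑G.s ⁻¹' {u}).Finite) (r₁ : G.R) (hr₁ : G.s r₁ = u) :
    (⇑G.s ⁻¹' {G.t r₁}).Finite := by
  let ρ := G.R.fromSpecResidueField r₁
  let F : pullback G.s (ρ ≫ G.t) ⟶ pullback G.s (ρ ≫ G.s) :=
    pullback.lift (pullback.lift (pullback.fst _ _) (pullback.snd _ _ ≫ ρ)
      (by rw [pullback.condition, Category.assoc]) ≫ G.c) (pullback.snd _ _)
      ((G.comp_s _ _ _).trans (Category.assoc _ _ _))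
  let F' : pullback G.s (ρ ≫ G.s) ⟶ pullback G.s (ρ ≫ G.t) :=
    pullback.lift (pullback.lift (pullback.fst _ _) (pullback.snd _ _ ≫ ρ ≫ G.i)
      (by rw [pullback.condition, Category.assoc, Category.assoc, G.i_t]) ≫ G.c) (pullback.snd _ _)
      ((G.comp_s _ _ _).trans (by rw [Category.assoc, Category.assoc, G.i_s]))
  have hFF' : F ≫ F' = 𝟙 _ := by
    apply pullback.hom_ext
    · let α := pullback.fst G.s (ρ ≫ G.t)
      let β := pullback.snd G.s (ρ ≫ G.t) ≫ ρ
      have h₁ : α ≫ G.s = β ≫ G.t := by simp only [α, β, Category.assoc, pullback.condition]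
      have h₂ : β ≫ G.s = (β ≫ G.i) ≫ G.t := by rw [Category.assoc β, G.i_t]
      rw [Category.assoc, pullback.lift_fst, Category.id_comp, ← Category.assoc]
      have hsnd : F ≫ pullback.snd G.s (ρ ≫ G.s) ≫ ρ ≫ G.i = β ≫ G.i := by
        simp only [F, β, pullback.lift_snd_assoc, Category.assoc]
      have e1 : F ≫ pullback.lift (pullback.fst G.s (ρ ≫ G.s)) (pullback.snd G.s (ρ ≫ G.s) ≫ ρ ≫ G.i)
          (by rw [pullback.condition, Category.assoc, Category.assoc, G.i_t]) =
          pullback.lift (pullback.lift α β h₁ ≫ G.c) (β ≫ G.i) ((G.comp_s α β h₁).trans h₂) := by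
        apply pullback.hom_ext
        · rw [Category.assoc, pullback.lift_fst, pullback.lift_fst]
          simp only [F, α, β, pullback.lift_fst]
        · rw [Category.assoc, pullback.lift_snd, pullback.lift_snd, hsnd]
      rw [e1, G.assoc α β (β ≫ G.i) h₁ h₂]
      have e2 : pullback.lift α (pullback.lift β (β ≫ G.i) h₂ ≫ G.c) (h₁.trans (G.comp_t _ _ h₂).symm) =
          pullback.lift α (α ≫ G.s ≫ G.e) (by simp [G.e_t]) := by
        apply pullback.hom_ext
        · simp only [pullback.lift_fst]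
        · simp only [pullback.lift_snd]
          rw [G.comp_i β, reassoc_of% h₁]
      rw [e2]
      exact G.comp_e α
    · simp only [F, F', Category.assoc, pullback.lift_snd, Category.id_comp]
  obtain ⟨hf, -⟩ := isFinite_fiber_of_finite G.s u hfin
  let χ : Spec (G.R.residueField r₁) ⟶ Spec (G.U.residueField u) :=
    Spec.map ((G.U.residueFieldCongr hr₁).inv ≫ G.s.residueFieldMap r₁)
  have hχ : χ ≫ G.U.fromSpecResidueField u = ρ ≫ G.s := by
    subst hr₁
    simp [χ, ρ]
  let P := pullback (G.s.fiberToSpecResidueField u) χ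
  have hP : IsFinite (pullback.snd (G.s.fiberToSpecResidueField u) χ) := inferInstance
  have : Finite P := by
    rw [← Set.finite_univ_iff]
    have h := (pullback.snd (G.s.fiberToSpecResidueField u) χ).finite_preimage (s := Set.univ) Set.finite_univ
    rwa [Set.preimage_univ] at h
  let eP : P ≅ pullback G.s (ρ ≫ G.s) :=
    pullbackLeftPullbackSndIso G.s (G.U.fromSpecResidueField u) χ ≪≫ pullback.congrHom rfl hχ
  have : Finite (pullback G.s (ρ ≫ G.s) : Scheme.{u}) := Finite.of_equiv _ eP.hom.homeomorph.toEquiv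
  have : Finite (pullback G.s (ρ ≫ G.t) : Scheme.{u}) := Finite.of_injective (fun z => F z) (fun a b h => by
    have h' := congrArg (fun z => F' z) h
    simp only [← Scheme.Hom.comp_apply, hFF'] at h'
    simpa using h')
  refine (Set.finite_range (fun z => pullback.fst G.s (ρ ≫ G.t) z)).subset fun r hr => ?_
  obtain ⟨q⟩ : Nonempty (Spec (G.R.residueField r₁)) := inferInstance
  obtain ⟨z, hz, -⟩ := Scheme.Pullback.exists_preimage_pullback (f := G.s) (g := ρ ≫ G.t) r q (by
    rw [Scheme.Hom.comp_apply, show ρ q = r₁ from Scheme.fromSpecResidueField_apply r₁ q]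
    exact hr)
  exact ⟨z, hz⟩

theorem finite_preimage_orbit (u : G.U) (hfin : (⇑G.s ⁻¹' {u}).Finite) : (⇑G.s ⁻¹' orbit G u).Finite :=
  Set.Finite.preimage' (hfin.image _) fun y hy => by
    obtain ⟨r₁, hr₁, rfl⟩ := hy
    exact finite_preimage_translate G u hfin r₁ hr₁

end Groth.Agent.Stk19b.GrpdFinPart
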